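import Groth.Agent.PicAux.Powers
import Groth.Agent.EulerDeg.LineBundle
import Groth.Agent.Misc15.P1Stalk
import Groth.Agent.PnCoh.OverAffine
import Groth.Agent.PnCoh.VanishingClosed
import Groth.Agent.Duality.SheafHomTwist

/-!
# Global sections of a bundle attached to a subscheme of projective space
-/

set_option autoImplicit false

universe u

open CategoryTheory CategoryTheory.Limits AlgebraicGeometry Opposite TopologicalSpace
open Groth.PicAux

namespace Groth.SerreH0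

variable (n : ℕ) (k : Type u) [Field k]

local notation "P" => CohB1.ProjSpace n k
local notation "O(" a ")" => Twist.twistProjSpace n k a

theorem isIntegral_projSpace : IsIntegral P := by
  haveI : Nonempty ↥P := ⟨(Groth.PnCoh.overIso n k).inv (genericPoint _)⟩
  exact isIntegral_of_isOpenImmersion (Groth.PnCoh.overIso n k).hom

variable {n k}

theorem sections_ne_zero_iff (M : (P).Modules) :
    ¬ Subsingleton (Coh.HH P M 0) ↔ ∃ σ : Coh.structureModule P ⟶ M, σ ≠ 0 := by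
  let e := CohFin.equivSections (CohB1.ProjSpace.toSpec n k) M
  constructor
  · intro h
    rw [not_subsingleton_iff_nontrivial] at h
    obtain ⟨v, hv⟩ := exists_ne (0 : Coh.HH P M 0)
    refine ⟨homOfSection (e v), fun h0 => hv ?_⟩
    have h1 : e v = 0 := by rw [← homOfSection_one (e v), h0]; rfl
    exact e.injective (h1.trans (map_zero e).symm)
  · rintro ⟨σ, hσ⟩ h
    haveI : Subsingleton (CohFin.HA (CohB1.ProjSpace.toSpec n k) M 0) := h
    exact hσ (hom_structure_ext (e.symm.injective (Subsingleton.elim _ _)))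

theorem subsingleton_twist_zero_iff (hn : 1 ≤ n) (a : ℤ) : Subsingleton (Coh.HH P O(a) 0) ↔ a < 0 := by
  refine ⟨fun h => ?_, fun ha => PnCoh.subsingleton_HH_twist a 0 (by omega) (by omega)⟩
  by_contra ha
  obtain ⟨m, rfl⟩ := Int.eq_ofNat_of_zero_le (not_lt.1 ha)
  let Q : MvPolynomial.homogeneousSubmodule (Fin (n + 1)) k m :=
    ⟨MvPolynomial.X 0 ^ m, by simpa using (MvPolynomial.isHomogeneous_X k (0 : Fin (n + 1))).pow m⟩
  have hQ : Q ≠ 0 := fun h0 =>
    pow_ne_zero m (MvPolynomial.X_ne_zero (0 : Fin (n + 1))) (congrArg Subtype.val h0)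
  exact hQ ((PnCoh.h0Equiv (n := n) (R := k) m).injective (Subsingleton.elim _ _))


/-- Sections of `J(d)` inject into sections of `J(d')` for `d ≤ d'`. -/
theorem subsingleton_ideal_twist_of_le (hn : 1 ≤ n)
    (Y : (CohB1.ProjSpace n k).IdealSheafData) {d d' : ℤ} (hd : d ≤ d')
    (h : Subsingleton (Coh.HH P (CohB1.tensorMod (ClSub.idealMod Y) O(d')) 0)) :
    Subsingleton (Coh.HH P (CohB1.tensorMod (ClSub.idealMod Y) O(d)) 0) := by
  haveI := isIntegral_projSpace n k
  obtain ⟨e, rfl⟩ := Int.le.dest hd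
  by_contra hns
  obtain ⟨σ, hσ⟩ := (sections_ne_zero_iff _).1 hns
  refine (sections_ne_zero_iff _).2 ?_ h
  have hinv : ∀ a, PicF.IsInvertible O(a) := fun a => Groth.PnCoh.isInvertible_twist n k a
  obtain ⟨z, hz⟩ := (sections_ne_zero_iff O((e : ℤ))).1 (by rw [subsingleton_twist_zero_iff hn]; omega)
  haveI := Groth.EulerDeg.mono_of_ne_zero (Groth.EulerDeg.isInvertible_structureModule P) (hinv _) hz
  haveI := Groth.PicAux.isEquivalence_tensorRightMod_of_isInvertible (hinv (e : ℤ))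
  obtain ⟨l, -⟩ := exists_leftUnitor O((e : ℤ))
  obtain ⟨as, -⟩ := exists_associator (ClSub.idealMod Y) O(d) O((e : ℤ))
  obtain ⟨eT⟩ := Groth.Duality.Pn.nonempty_twist_tensor n k d (e : ℤ)
  let m : CohB1.tensorMod (Coh.structureModule P) O((e : ℤ)) ⟶
      CohB1.tensorMod (CohB1.tensorMod (ClSub.idealMod Y) O(d)) O((e : ℤ)) :=
    KoszTw.tensorMap σ (𝟙 _)
  have hm : m ≠ 0 := by
    intro h0
    refine hσ ((DCoh.tensorRightMod O((e : ℤ))).map_injective ?_)
    rw [Functor.map_zero, KoszTw.tensorRightMod_map]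
    exact h0
  let ψ : O((e : ℤ)) ⟶ CohB1.tensorMod (ClSub.idealMod Y) O(d + e) :=
    l.inv ≫ m ≫ (as ≪≫ PicGrp.tensorModIso (Iso.refl _) eT).hom
  have hψ : ψ ≠ 0 := fun h0 => hm ((cancel_mono (as ≪≫ PicGrp.tensorModIso (Iso.refl _) eT).hom).1
    (((cancel_epi l.inv).1 (h0.trans comp_zero.symm)).trans zero_comp.symm))
  haveI := Groth.PicAux.isEquivalence_tensorRightMod_of_isInvertible (hinv (d + e))
  obtain ⟨l', -⟩ := exists_leftUnitor O(d + e)
  haveI : Mono (ClSub.idealModι Y) := equalizer.ι_mono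
  have hτ : Mono ((DCoh.tensorRightMod O(d + e)).map (ClSub.idealModι Y)) := inferInstance
  rw [KoszTw.tensorRightMod_map] at hτ
  haveI := hτ
  let τ : CohB1.tensorMod (ClSub.idealMod Y) O(d + e) ⟶ O(d + e) :=
    KoszTw.tensorMap (ClSub.idealModι Y) (𝟙 _) ≫ l'.hom
  haveI : Mono τ := @mono_comp _ _ _ _ _ _ hτ l'.hom inferInstance
  haveI := Groth.EulerDeg.mono_of_ne_zero (hinv (e : ℤ)) (hinv (d + e))
    (show ψ ≫ τ ≠ 0 from fun h0 => hψ ((cancel_mono τ).1 (h0.trans zero_comp.symm)))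
  refine ⟨z ≫ ψ, fun h0 => hz ?_⟩
  have h1 : z ≫ ψ ≫ τ = 0 := by rw [← Category.assoc, h0, zero_comp]
  exact (cancel_mono (ψ ≫ τ)).1 (h1.trans zero_comp.symm)

/-- The criterion for the vanishing of sections of the twists of a bundle belonging to a subscheme. -/
theorem subsingleton_iff (hn : 2 ≤ n)
    {Y : (CohB1.ProjSpace n k).IdealSheafData} {c : ℤ} (S : ShortComplex (P).Modules) (hS : S.ShortExact)
    (h₁ : Nonempty (S.X₁ ≅ Coh.structureModule P))
    (h₃ : Nonempty (S.X₃ ≅ CohB1.tensorMod (ClSub.idealMod Y) O(c))) (a : ℤ) :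
    Subsingleton (Coh.HH P (CohB1.tensorMod S.X₂ O(a)) 0) ↔
      (a < 0 ∧ ∀ d : ℤ, d ≤ c + a →
        Subsingleton (Coh.HH P (CohB1.tensorMod (ClSub.idealMod Y) O(d)) 0)) := by
  obtain ⟨e₁⟩ := h₁
  obtain ⟨e₃⟩ := h₃
  obtain ⟨l, -⟩ := exists_leftUnitor O(a)
  obtain ⟨as, -⟩ := exists_associator (ClSub.idealMod Y) O(c) O(a)
  obtain ⟨eT⟩ := Groth.Duality.Pn.nonempty_twist_tensor n k c a
  let f := CohB1.ProjSpace.toSpec n k
  let i₁ : CohB1.tensorMod S.X₁ O(a) ≅ O(a) := PicGrp.tensorModIso e₁ (Iso.refl _) ≪≫ l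
  let i₃ : CohB1.tensorMod S.X₃ O(a) ≅ CohB1.tensorMod (ClSub.idealMod Y) O(c + a) :=
    PicGrp.tensorModIso e₃ (Iso.refl _) ≪≫ as ≪≫ PicGrp.tensorModIso (Iso.refl _) eT
  have hT := shortExact_tensorRightMod (Groth.PnCoh.isInvertible_twist n k a) hS
  let T := S.map (DCoh.tensorRightMod O(a))
  have h1 : Subsingleton (CohFin.HA f T.X₁ 1) :=
    PnCoh.subsingleton_HH_of_iso f i₁.symm (PnCoh.subsingleton_HH_twist a 1 (by omega) (by omega))
  constructor
  · intro h2
    haveI : Subsingleton (CohFin.HA f T.X₂ 0) := h2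
    have hT1 : Subsingleton (CohFin.HA f T.X₁ 0) :=
      (CohFin.mapL_zero_injective (f := f) hT).subsingleton
    refine ⟨(subsingleton_twist_zero_iff (by omega) a).1 (PnCoh.subsingleton_HH_of_iso f i₁ hT1), fun d hd => ?_⟩
    refine subsingleton_ideal_twist_of_le (by omega) Y hd (PnCoh.subsingleton_HH_of_iso f i₃ ?_)
    refine subsingleton_of_forall_eq (0 : CohFin.HA f T.X₃ 0) fun x => ?_
    obtain ⟨y, rfl⟩ := (CohFin.exact_mapL_delta (f := f) hT 0 x).1 (Subsingleton.elim _ _)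
    rw [Subsingleton.elim y 0, map_zero]
  · rintro ⟨ha, hd⟩
    haveI : Subsingleton (CohFin.HA f T.X₁ 0) :=
      PnCoh.subsingleton_HH_of_iso f i₁.symm ((subsingleton_twist_zero_iff (by omega) a).2 ha)
    haveI : Subsingleton (CohFin.HA f T.X₃ 0) :=
      PnCoh.subsingleton_HH_of_iso f i₃.symm (hd _ le_rfl)
    refine subsingleton_of_forall_eq (0 : CohFin.HA f T.X₂ 0) fun x => ?_
    obtain ⟨y, rfl⟩ := ((CohFin.exact_mapL_mapL (f := f) hT 0) x).1 (Subsingleton.elim _ _)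
    rw [Subsingleton.elim y 0, map_zero]

end Groth.SerreH0
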